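import Groth.Agent.Lib.StrictSS6.NodeChart
import Groth.Agent.Lib.StrictSS13.Branch
import Groth.Agent.Lib.StrictSS13.Components
import Groth.Agent.Lib.NodeOpen11.LCI
import Groth.Agent.Lib.LocProp.Stalk
import Groth.Agent.Lib.CurveStk.Smooth

/-! # Charts of strictly semistable curves -/

set_option autoImplicit false
set_option linter.all false
set_option backward.isDefEq.respectTransparency false

universe u

open CategoryTheory CategoryTheory.Limits AlgebraicGeometry IsLocalRing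

noncomputable section

namespace GrothLib.StrictSS6

open GrothLib.NodeEt

variable {k : Type u} [Field k] {C D : Scheme.{u}} (φ : C ⟶ Spec (CommRingCat.of k)) (i : D ⟶ C)

/-- The chart on the open of a localisation. -/
theorem hasNodeChartAt_of {x : C} (c : Chart φ x) (ψ : StrictSS.NodeAlg k (0 : k) →ₐ[k] c.R) (g : c.R)
    (hg : g ∉ c.pt.asIdeal) (het : ((algebraMap c.R (Localization.Away g)).comp ψ.toRingHom).Etale)
    (hD : ∀ p : PrimeSpectrum c.R, g ∉ p.asIdeal → c.j p ∉ Set.range i) :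
    StrictSS.HasNodeChartAt φ i x := by
  let m : Spec (CommRingCat.of (Localization.Away g)) ⟶ C :=
    Spec.map (CommRingCat.ofHom (algebraMap c.R (Localization.Away g))) ≫ c.j
  haveI : IsOpenImmersion (Spec.map (CommRingCat.ofHom (algebraMap c.R (Localization.Away g)))) :=
    IsOpenImmersion.of_isLocalization g
  let U := m.opensRange
  have hr : ∀ y : C, y ∈ U ↔ ∃ p : PrimeSpectrum c.R, g ∉ p.asIdeal ∧ c.j p = y := by
    intro y
    have h1 := PrimeSpectrum.localization_away_comap_range (Localization.Away g) g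
    constructor
    · rintro ⟨p, hp⟩
      let p₀ : PrimeSpectrum c.R := PrimeSpectrum.comap (algebraMap c.R (Localization.Away g)) p
      refine ⟨p₀, h1.le ⟨p, rfl⟩, ?_⟩
      rw [← hp]; rfl
    · rintro ⟨p, hp, rfl⟩
      obtain ⟨p', hp'⟩ := h1.ge hp
      exact ⟨p', congrArg (fun z => c.j z) hp'⟩
  refine ⟨CommRingCat.of k, 𝟙 _, inferInstance, U, (hr x).2 ⟨c.pt, hg, c.hpt⟩, U.ι ≫ φ, (Category.comp_id _).symm, 0,
    m.isoOpensRange.inv ≫ Spec.map (CommRingCat.ofHom ((algebraMap c.R (Localization.Away g)).comp ψ.toRingHom)), ?_, ?_, ?_⟩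
  · haveI : Etale (Spec.map (CommRingCat.ofHom ((algebraMap c.R (Localization.Away g)).comp ψ.toRingHom))) :=
      (HasRingHomProperty.Spec_iff (P := @Etale)).2 het
    infer_instance
  · rw [Category.assoc, Iso.inv_comp_eq, ← Category.assoc m.isoOpensRange.hom, Scheme.Hom.isoOpensRange_hom_ι,
      Category.assoc, c.hj, ← Spec.map_comp, ← Spec.map_comp]
    refine congrArg Spec.map (CommRingCat.hom_ext (RingHom.ext fun a => ?_))
    exact congrArg (algebraMap c.R (Localization.Away g)) (ψ.commutes a)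
  · rw [Set.disjoint_left]
    rintro _ ⟨z, rfl⟩ hz
    obtain ⟨p, hp, he⟩ := (hr _).1 hz
    exact hD p hp ⟨z, he.symm⟩

/-- The line chart on the open of a localisation. -/
theorem hasLineChartAt_of [Etale (i ≫ φ)] [IsClosedImmersion i] {x : C} (c : Chart φ x) (a g : c.R)
    (hg : g ∉ c.pt.asIdeal)
    (het : ((algebraMap c.R (Localization.Away g)).comp (Polynomial.aeval (R := k) a).toRingHom).Etale)
    (hD : ∀ (T : Type u) [CommRing T] (ρ : c.R →+* T) (w : Spec (CommRingCat.of T) ⟶ D),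
      w ≫ i = Spec.map (CommRingCat.ofHom ρ) ≫ c.j → IsUnit (ρ g) → ρ a = 0) :
    StrictSS.HasLineChartAt φ i x := by
  let m : Spec (CommRingCat.of (Localization.Away g)) ⟶ C :=
    Spec.map (CommRingCat.ofHom (algebraMap c.R (Localization.Away g))) ≫ c.j
  haveI : IsOpenImmersion (Spec.map (CommRingCat.ofHom (algebraMap c.R (Localization.Away g)))) :=
    IsOpenImmersion.of_isLocalization g
  let U := m.opensRange
  have hxU : x ∈ U := by
    obtain ⟨p', hp'⟩ := (PrimeSpectrum.localization_away_comap_range (Localization.Away g) g).ge hg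
    exact ⟨p', (congrArg (fun z => c.j z) hp').trans c.hpt⟩
  let f := m.isoOpensRange.inv ≫
    Spec.map (CommRingCat.ofHom ((algebraMap c.R (Localization.Away g)).comp (Polynomial.aeval (R := k) a).toRingHom))
  have hf : f ≫ StrictSS.lineToBase (CommRingCat.of k) = U.ι ≫ φ := by
    show (m.isoOpensRange.inv ≫ _) ≫ _ = _
    rw [Category.assoc, Iso.inv_comp_eq, ← Category.assoc m.isoOpensRange.hom, Scheme.Hom.isoOpensRange_hom_ι,
      Category.assoc, c.hj, ← Spec.map_comp, ← Spec.map_comp]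
    refine congrArg Spec.map (CommRingCat.hom_ext (RingHom.ext fun b => ?_))
    exact congrArg (algebraMap c.R (Localization.Away g)) (Polynomial.aeval_C (R := k) a b)
  refine ⟨CommRingCat.of k, 𝟙 _, inferInstance, U, hxU, U.ι ≫ φ, (Category.comp_id _).symm, f,
    (i ⁻¹ᵁ U).ι ≫ i ≫ φ, ?_, hf, inferInstance, ?_⟩
  · haveI : Etale (Spec.map (CommRingCat.ofHom ((algebraMap c.R (Localization.Away g)).comp (Polynomial.aeval (R := k) a).toRingHom))) :=
      (HasRingHomProperty.Spec_iff (P := @Etale)).2 het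
    infer_instance
  · haveI : IsAffine (U : Scheme.{u}) := IsAffine.of_isIso m.isoOpensRange.inv
    haveI : IsAffine ((i ⁻¹ᵁ U : D.Opens) : Scheme.{u}) := isAffine_of_isAffineHom (i ∣_ U)
    let T : Scheme.{u} := (i ⁻¹ᵁ U : D.Opens)
    let e : Spec Γ(T, ⊤) ≅ T := T.isoSpec.symm
    rw [← cancel_epi e.hom]
    obtain ⟨ρ', hρ'⟩ : ∃ ρ', Spec.map ρ' = e.hom ≫ (i ∣_ U) ≫ m.isoOpensRange.inv := ⟨_, Spec.map_preimage _⟩
    let ρ := ρ'.hom.comp (algebraMap c.R (Localization.Away g))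
    have hw : (e.hom ≫ (i ⁻¹ᵁ U).ι) ≫ i = Spec.map (CommRingCat.ofHom ρ) ≫ c.j := by
      rw [show Spec.map (CommRingCat.ofHom ρ) ≫ c.j = Spec.map ρ' ≫ m by
        rw [← Category.assoc, ← Spec.map_comp]; rfl]
      rw [hρ', Category.assoc, ← morphismRestrict_ι, Category.assoc, Category.assoc, ← Scheme.Hom.isoOpensRange_inv_comp]
    have ha : ρ a = 0 := hD _ ρ _ hw ((IsLocalization.map_units (Localization.Away g) ⟨g, Submonoid.mem_powers g⟩).map ρ'.hom)
    have hφ : e.hom ≫ (i ⁻¹ᵁ U).ι ≫ i ≫ φ = Spec.map (CommRingCat.ofHom (ρ.comp (algebraMap k c.R))) := by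
      rw [← Category.assoc, ← Category.assoc, hw, Category.assoc, c.hj, ← Spec.map_comp]; rfl
    rw [show e.hom ≫ ((i ⁻¹ᵁ U).ι ≫ i ≫ φ) ≫ StrictSS.lineZero (CommRingCat.of k) =
      (e.hom ≫ (i ⁻¹ᵁ U).ι ≫ i ≫ φ) ≫ StrictSS.lineZero (CommRingCat.of k) from (Category.assoc _ _ _).symm, hφ]
    show _ = e.hom ≫ (i ∣_ U) ≫ m.isoOpensRange.inv ≫ _
    rw [← Category.assoc (i ∣_ U), ← Category.assoc, ← hρ', ← Spec.map_comp, ← Spec.map_comp]
    refine congrArg Spec.map (CommRingCat.hom_ext (Polynomial.ringHom_ext (fun b => ?_) ?_))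
    · show ρ (algebraMap k c.R (Polynomial.eval 0 (Polynomial.C b))) = ρ (Polynomial.aeval a (Polynomial.C b))
      rw [Polynomial.eval_C, Polynomial.aeval_C]
    · show ρ (algebraMap k c.R (Polynomial.eval 0 Polynomial.X)) = ρ (Polynomial.aeval a Polynomial.X)
      rw [Polynomial.eval_X, Polynomial.aeval_X, map_zero, map_zero, ha]

theorem exists_mem_notMem {x : C} (c : Chart φ x) (Ω : C.Opens) (hx : x ∈ Ω) :
    ∃ g : c.R, g ∉ c.pt.asIdeal ∧ ∀ p : PrimeSpectrum c.R, g ∉ p.asIdeal → c.j p ∈ Ω := by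
  obtain ⟨_, ⟨_, ⟨g, rfl⟩, rfl⟩, hpt, hsub⟩ := PrimeSpectrum.isBasis_basic_opens.exists_subset_of_mem_open
    (show c.pt ∈ c.j ⁻¹' (Ω : Set C) by rw [Set.mem_preimage, c.hpt]; exact hx) (Ω.2.preimage c.j.continuous)
  exact ⟨g, hpt, fun p hp => hsub hp⟩

variable [LocallyOfFiniteType φ]

/-- The branches through a point of a curve with smooth components are regular. -/
theorem branch_uniformiser (hdim : ∀ W ∈ irreducibleComponents (C : Type u), topologicalKrullDim W = 1)
    (hZ : ∀ Z ∈ irreducibleComponents (C : Type u), ∃ (W : Scheme.{u}) (e : W ⟶ C),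
      IsClosedImmersion e ∧ IsReduced W ∧ Set.range e.base = Z ∧ Smooth (e ≫ φ))
    (x : C) (hx : IsClosed ({x} : Set C)) :
    ∀ P ∈ minimalPrimes (C.presheaf.stalk x), ∃ π : C.presheaf.stalk x,
      π ∈ maximalIdeal _ ∧ π ∉ P ∧ maximalIdeal _ ≤ Ideal.span {π} ⊔ P := by
  intro P hP
  have hd := GrothLib.NodeOpen11.stalk_dim_of_closed φ hdim x hx
  haveI := hP.1.1
  let η : C := C.fromSpecStalk x ⟨P, hP.1.1⟩
  have hηx : η ⤳ x := (C.range_fromSpecStalk (x := x)).le ⟨_, rfl⟩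
  obtain ⟨Z, hZc, hηZ⟩ := exists_mem_irreducibleComponents_subset_of_isIrreducible _ (isIrreducible_singleton (x := η))
  obtain ⟨W, e, he, -, hre, hsm⟩ := hZ Z hZc
  haveI := he; haveI := hsm
  obtain ⟨w, rfl⟩ : x ∈ Set.range e.base :=
    hre.ge (hηx.mem_closed (isClosed_of_mem_irreducibleComponents Z hZc) (hηZ rfl))
  obtain ⟨w', hw'⟩ : η ∈ Set.range e.base := hre.ge (hηZ rfl)
  haveI : IsLocallyNoetherian W := LocallyOfFiniteType.isLocallyNoetherian (e ≫ φ)
  haveI : IsLocallyNoetherian C := LocallyOfFiniteType.isLocallyNoetherian φ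
  haveI : IsRegularLocalRing (W.presheaf.stalk w) :=
    Groth.Agent.Lib.AlgMisc.GeomRegAt.isRegularLocalRing_stalk_of_mem_smoothLocus (e ≫ φ)
      (by rw [Scheme.Hom.smoothLocus_eq_top]; trivial)
  haveI : IsDomain (W.presheaf.stalk w) := GrothLib.CMFree.isDomain_of_isRegularLocalRing _
  let σ := (e.stalkMap w).hom
  have hσ : Function.Surjective σ := e.stalkMap_surjective w
  have hw'w : w' ⤳ w := by
    rw [← e.isClosedEmbedding.isInducing.specializes_iff]
    rw [show e w' = η from hw']; exact hηx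
  obtain ⟨q, hq⟩ := (W.range_fromSpecStalk (x := w)).ge hw'w
  have hker : RingHom.ker σ = P := by
    have h1 : C.fromSpecStalk (e w) (Spec.map (e.stalkMap w) q) = η := by
      rw [← Scheme.Hom.comp_apply, Scheme.SpecMap_stalkMap_fromSpecStalk, Scheme.Hom.comp_apply, hq, hw']
    have h2 : Spec.map (e.stalkMap w) q = (⟨P, hP.1.1⟩ : PrimeSpectrum _) :=
      (C.fromSpecStalk (e w)).isEmbedding.injective h1
    have h3 : RingHom.ker σ ≤ P := by
      intro z hz
      have h4 : z ∈ (PrimeSpectrum.comap σ q).asIdeal := by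
        rw [PrimeSpectrum.comap_asIdeal, Ideal.mem_comap, RingHom.mem_ker.1 hz]; exact zero_mem _
      rwa [show PrimeSpectrum.comap σ q = ⟨P, hP.1.1⟩ from h2] at h4
    exact le_antisymm h3 (hP.2 ⟨RingHom.ker_isPrime σ, bot_le⟩ h3)
  have hne : P ≠ maximalIdeal _ := fun h => by
    have h0 : (maximalIdeal (C.presheaf.stalk (e w))).height = 0 := Ideal.height_eq_zero_iff.mpr (h ▸ hP)
    have h1 := IsLocalRing.maximalIdeal_height_eq_ringKrullDim (R := C.presheaf.stalk (e w))
    rw [h0, hd] at h1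
    exact absurd h1 (by norm_num)
  have hrank : (maximalIdeal (W.presheaf.stalk w)).spanFinrank ≤ 1 := by
    have h1 := ringKrullDim_le_of_surjective σ hσ
    rw [hd, ← IsRegularLocalRing.spanFinrank_maximalIdeal] at h1
    exact_mod_cast h1
  obtain ⟨π', hπ'⟩ : ∃ π' : W.presheaf.stalk w, maximalIdeal _ = Ideal.span {π'} := by
    rcases Nat.le_one_iff_eq_zero_or_eq_one.1 hrank with h | h
    · exact ⟨0, by rw [Ideal.span_singleton_eq_bot.2 rfl]; exact (Submodule.spanFinrank_eq_zero_iff_eq_bot (IsNoetherian.noetherian _)).1 h⟩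
    · obtain ⟨⟨π', hπ'⟩⟩ := ((Submodule.spanFinrank_eq_one_iff _).1 h).1
      exact ⟨π', hπ'⟩
  obtain ⟨π, hπ⟩ := hσ π'
  have hloc : ∀ z, z ∈ maximalIdeal _ → σ z ∈ maximalIdeal (W.presheaf.stalk w) := fun z hz =>
    fun hu => hz (isUnit_of_map_unit σ z hu)
  have hle : maximalIdeal _ ≤ Ideal.span {π} ⊔ P := fun z hz => by
    obtain ⟨b, hb⟩ := Ideal.mem_span_singleton'.1 (hπ' ▸ hloc z hz)
    obtain ⟨b, rfl⟩ := hσ b
    refine Submodule.mem_sup.2 ⟨b * π, Ideal.mem_span_singleton'.2 ⟨b, rfl⟩, z - b * π, ?_, by ring⟩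
    rw [← hker, RingHom.mem_ker, map_sub, map_mul, hπ, hb, sub_self]
  have hπm : π ∈ maximalIdeal _ := fun hu => by
    have : π' ∈ maximalIdeal (W.presheaf.stalk w) := hπ' ▸ Ideal.mem_span_singleton_self _
    exact this (hπ ▸ hu.map σ)
  refine ⟨π, hπm, fun hπP => hne (le_antisymm (le_maximalIdeal hP.1.1.ne_top) (hle.trans ?_)), hle⟩
  exact sup_le ((Ideal.span_singleton_le_iff_mem _).2 hπP) le_rfl

end GrothLib.StrictSS6
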