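import Groth.Agent.Lib.NodeEt.Form
import Mathlib.RingTheory.Ideal.MinimalPrime.Basic
import Mathlib.RingTheory.Filtration
import Mathlib.RingTheory.Length

/-! # A node with regular branches has two branches with transversal uniformisers -/

set_option autoImplicit false
set_option linter.all false

universe u

open IsLocalRing

noncomputable section

namespace GrothLib.StrictSS6

variable {A : Type u} [CommRing A] [IsLocalRing A]

/-- `A / (P + (π ^ n))` has length at least `n`. -/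
theorem le_length_quot {P : Ideal A} [P.IsPrime] {π : A} (hπ : π ∈ maximalIdeal A) (hπP : π ∉ P) :
    ∀ n : ℕ, (n : ℕ∞) ≤ Module.length A (A ⧸ (P ⊔ Ideal.span {π ^ n})) := by
  intro n
  induction n with
  | zero => simp
  | succ n ih =>
    let J := P ⊔ Ideal.span {π ^ n}
    let J' := P ⊔ Ideal.span {π ^ (n + 1)}
    have hle : J ≤ Submodule.comap (LinearMap.mulLeft A π) J' := fun x hx => by
      obtain ⟨p, hp, q, hq, rfl⟩ := Submodule.mem_sup.1 hx
      obtain ⟨c, rfl⟩ := Ideal.mem_span_singleton'.1 hq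
      show π * (p + c * π ^ n) ∈ J'
      rw [mul_add]
      exact add_mem (Ideal.mem_sup_left (P.mul_mem_left _ hp))
        (Ideal.mem_sup_right (Ideal.mem_span_singleton'.2 ⟨c, by ring⟩))
    let f : (A ⧸ J) →ₗ[A] A ⧸ J' := Submodule.mapQ J J' (LinearMap.mulLeft A π) hle
    have hf : Function.Injective f := by
      rw [← LinearMap.ker_eq_bot, eq_bot_iff]
      intro x hx
      obtain ⟨x, rfl⟩ := Submodule.Quotient.mk_surjective _ x
      replace hx : π * x ∈ J' := (Submodule.Quotient.mk_eq_zero J').1 hx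
      obtain ⟨p, hp, q, hq, he⟩ := Submodule.mem_sup.1 hx
      obtain ⟨c, rfl⟩ := Ideal.mem_span_singleton'.1 hq
      have h1 : π * (x - c * π ^ n) ∈ P := by
        convert hp using 1
        linear_combination -he
      have h2 := ((‹P.IsPrime›).mem_or_mem h1).resolve_left hπP
      refine (Submodule.Quotient.mk_eq_zero J).2 ?_
      rw [show x = (x - c * π ^ n) + c * π ^ n by ring]
      exact add_mem (Ideal.mem_sup_left h2) (Ideal.mem_sup_right (Ideal.mem_span_singleton'.2 ⟨c, rfl⟩))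
    have htop : LinearMap.range f ≠ ⊤ := fun h => by
      obtain ⟨y, hy⟩ := (h.ge Submodule.mem_top : Submodule.Quotient.mk (p := J') 1 ∈ LinearMap.range f)
      obtain ⟨y, rfl⟩ := Submodule.Quotient.mk_surjective _ y
      have h1 : π * y - 1 ∈ J' := (Submodule.Quotient.eq J').1 hy
      have h2 : J' ≤ maximalIdeal A := sup_le (le_maximalIdeal ‹P.IsPrime›.ne_top)
        ((Ideal.span_singleton_le_iff_mem _).2 (Ideal.pow_mem_of_mem _ hπ _ (Nat.succ_pos n)))
      have h3 := sub_mem (Ideal.mul_mem_right y _ hπ) (h2 h1)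
      rw [sub_sub_cancel] at h3
      exact (maximalIdeal A).ne_top_iff_one.1 (maximalIdeal.isMaximal A).ne_top h3
    rw [Module.length_eq_add_of_exact f (LinearMap.range f).mkQ hf (Submodule.mkQ_surjective _)
      (LinearMap.exact_map_mkQ_range f), Nat.cast_add, Nat.cast_one]
    refine add_le_add ih (Order.one_le_iff_pos.2 (pos_iff_ne_zero.2 ?_))
    rw [Ne, Module.length_eq_zero_iff, Submodule.Quotient.subsingleton_iff]
    exact htop

/-- An element outside a branch is a unit times a power of the uniformiser modulo the branch. -/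
theorem exists_pow_mem [IsNoetherianRing A] {P : Ideal A} [P.IsPrime] {π : A} (hπ : π ∈ maximalIdeal A)
    (hπm : maximalIdeal A ≤ Ideal.span {π} ⊔ P) {s : A} (hs : s ∉ P) :
    ∃ c : ℕ, π ^ c ∈ Ideal.span {s} ⊔ P := by
  classical
  haveI : Nontrivial (A ⧸ P) := Ideal.Quotient.nontrivial_iff.2 ‹P.IsPrime›.ne_top
  haveI : IsLocalRing (A ⧸ P) := IsLocalRing.of_surjective' (Ideal.Quotient.mk P) Ideal.Quotient.mk_surjective
  have hex : ∃ c, s ∉ Ideal.span {π ^ (c + 1)} ⊔ P := by
    by_contra hcon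
    simp only [not_exists, not_not] at hcon
    refine hs (Ideal.Quotient.eq_zero_iff_mem.1 ?_)
    have hI : (Ideal.span {Ideal.Quotient.mk P π}) ≠ ⊤ := by
      rw [Ne, Ideal.span_singleton_eq_top]
      intro h
      obtain ⟨y, hy⟩ := isUnit_iff_exists_inv.1 h
      obtain ⟨y, rfl⟩ := Ideal.Quotient.mk_surjective y
      rw [← map_mul, ← map_one (Ideal.Quotient.mk P), Ideal.Quotient.eq] at hy
      have h3 := sub_mem (Ideal.mul_mem_right y _ hπ)
        (le_maximalIdeal ‹P.IsPrime›.ne_top hy)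
      rw [sub_sub_cancel] at h3
      exact (maximalIdeal A).ne_top_iff_one.1 (maximalIdeal.isMaximal A).ne_top h3
    rw [← Ideal.mem_bot, ← Ideal.iInf_pow_eq_bot_of_isLocalRing _ hI, Submodule.mem_iInf]
    intro c
    cases c with
    | zero => simp
    | succ c =>
      obtain ⟨a, ha, p, hp, he⟩ := Submodule.mem_sup.1 (hcon c)
      obtain ⟨b, rfl⟩ := Ideal.mem_span_singleton'.1 ha
      rw [← he, map_add, Ideal.Quotient.eq_zero_iff_mem.2 hp, add_zero, map_mul, map_pow, Ideal.span_singleton_pow]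
      exact Ideal.mul_mem_left _ _ (Ideal.mem_span_singleton_self _)
  refine ⟨Nat.find hex, ?_⟩
  set c := Nat.find hex
  have hc : s ∈ Ideal.span {π ^ c} ⊔ P := by
    rcases Nat.eq_zero_or_pos c with h | h
    · rw [h, pow_zero, Ideal.span_singleton_one, top_sup_eq]; trivial
    · obtain ⟨d, hd⟩ := Nat.exists_eq_succ_of_ne_zero h.ne'
      rw [hd]
      exact not_not.1 (Nat.find_min hex (show d < c by omega))
  obtain ⟨a, ha, p, hp, he⟩ := Submodule.mem_sup.1 hc
  obtain ⟨b, rfl⟩ := Ideal.mem_span_singleton'.1 ha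
  have hb : IsUnit b := by
    by_contra hb
    obtain ⟨x, hx, y, hy, hxy⟩ := Submodule.mem_sup.1 (hπm (show b ∈ maximalIdeal A from hb))
    obtain ⟨z, rfl⟩ := Ideal.mem_span_singleton'.1 hx
    refine Nat.find_spec hex (Submodule.mem_sup.2 ⟨z * π ^ (c + 1), Ideal.mem_span_singleton'.2 ⟨z, rfl⟩,
      y * π ^ c + p, add_mem (P.mul_mem_right _ hy) hp, ?_⟩)
    rw [← he, ← hxy]; ring
  obtain ⟨b, rfl⟩ := hb
  refine Submodule.mem_sup.2 ⟨↑b⁻¹ * s, Ideal.mem_span_singleton'.2 ⟨_, rfl⟩, -(↑b⁻¹ * p), neg_mem (P.mul_mem_left _ hp), ?_⟩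
  have e : (↑b⁻¹ : A) * b = 1 := Units.inv_mul b
  rw [← he]
  linear_combination (π ^ c) * e

theorem sup_pow_le (π : A) (P : Ideal A) : ∀ n : ℕ, (Ideal.span {π} ⊔ P) ^ n ≤ Ideal.span {π ^ n} ⊔ P := by
  intro n
  induction n with
  | zero => simp
  | succ n ih =>
    rw [pow_succ]
    refine (Ideal.mul_mono ih le_rfl).trans ?_
    rw [Ideal.sup_mul, Ideal.mul_sup, Ideal.span_singleton_mul_span_singleton, ← pow_succ]
    exact sup_le (sup_le le_sup_left (Ideal.mul_le_right.trans le_sup_right)) (Ideal.mul_le_left.trans le_sup_right)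

theorem no_three_branches [IsNoetherianRing A] (h : GrothLib.NodeEt.NodeForm A) (P : Fin 3 → Ideal A)
    (hP : ∀ i, P i ∈ minimalPrimes A) (hne : Function.Injective P)
    (hπ : ∀ i, ∃ π : A, π ∈ maximalIdeal A ∧ π ∉ P i ∧ maximalIdeal A ≤ Ideal.span {π} ⊔ P i) : False := by
  classical
  have hPp : ∀ i, (P i).IsPrime := fun i => (hP i).1.1
  choose π hπm hπP hgen using hπ
  have hsep : ∀ i j, ∃ z, j ≠ i → z ∈ P j ∧ z ∉ P i := fun i j => by
    by_cases hji : j = i
    · exact ⟨0, fun h' => absurd hji h'⟩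
    · by_contra hcon
      simp only [not_exists, not_forall, not_and, not_not] at hcon
      have hle : P j ≤ P i := fun z hz => (hcon z).2 hz
      exact hji (hne (le_antisymm hle ((hP i).2 ⟨hPp j, bot_le⟩ hle)))
  choose z hz using hsep
  let s : Fin 3 → A := fun i => ∏ j ∈ Finset.univ.erase i, z i j
  have hs : ∀ i, s i ∉ P i := fun i hmem => by
    haveI := hPp i
    obtain ⟨j, hj, hj'⟩ := (Ideal.IsPrime.prod_mem_iff).1 hmem
    exact (hz i j (Finset.ne_of_mem_erase hj)).2 hj'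
  have hs' : ∀ i j, j ≠ i → s i ∈ P j := fun i j hji => by
    haveI := hPp j
    exact Ideal.IsPrime.prod_mem_iff.2 ⟨j, Finset.mem_erase.2 ⟨hji, Finset.mem_univ _⟩, (hz i j hji).1⟩
  have hc : ∀ i, ∃ c t, t - π i ^ c ∈ P i ∧ ∀ j, j ≠ i → t ∈ P j := fun i => by
    haveI := hPp i
    obtain ⟨c, hc⟩ := exists_pow_mem (hπm i) (hgen i) (hs i)
    obtain ⟨t, ht, p, hp, he⟩ := Submodule.mem_sup.1 hc
    obtain ⟨b, rfl⟩ := Ideal.mem_span_singleton'.1 ht
    exact ⟨c, b * s i, by rw [← he, sub_add_cancel_left]; exact neg_mem hp,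
      fun j hj => (P j).mul_mem_left _ (hs' i j hj)⟩
  choose c t htc ht using hc
  let C := Finset.univ.sup c
  let n := 3 * C + 1
  have hm : ∀ i, maximalIdeal A ^ n ≤ Ideal.span {π i ^ n} ⊔ P i := fun i => by
    exact (Ideal.pow_right_mono (hgen i) n).trans (sup_pow_le _ _ n)
  let χ : (Fin 3 → A) →ₗ[A] A ⧸ maximalIdeal A ^ n :=
    (Submodule.mkQ _).comp (Fintype.linearCombination A t)
  let J : Fin 3 → Ideal A := fun i => P i ⊔ Ideal.span {π i ^ (n - C)}
  let ψ : (Fin 3 → A) →ₗ[A] ∀ i, A ⧸ J i :=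
    LinearMap.pi fun i => (Submodule.mkQ (J i)).comp (LinearMap.proj i)
  have hψ : Function.Surjective ψ := fun y => by
    choose a ha using fun i => Submodule.Quotient.mk_surjective _ (y i)
    exact ⟨a, funext ha⟩
  have hker : LinearMap.ker χ ≤ LinearMap.ker ψ := by
    intro a ha
    replace ha : ∑ i, a i * t i ∈ maximalIdeal A ^ n := by
      simpa [χ, Fintype.linearCombination_apply, ← map_mul, ← map_sum, Ideal.Quotient.eq_zero_iff_mem] using ha
    refine LinearMap.mem_ker.2 (funext fun i => (Submodule.Quotient.mk_eq_zero _).2 ?_)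
    haveI := hPp i
    have h1 : a i * π i ^ c i ∈ Ideal.span {π i ^ n} ⊔ P i := by
      have h2 := hm i ha
      rw [← Finset.add_sum_erase _ _ (Finset.mem_univ i)] at h2
      have h3 : ∑ j ∈ Finset.univ.erase i, a j * t j ∈ P i :=
        Submodule.sum_mem _ fun j hj => (P i).mul_mem_left _ (ht j i (Finset.ne_of_mem_erase hj).symm)
      have h4 : a i * (t i - π i ^ c i) ∈ P i := (P i).mul_mem_left _ (htc i)
      have h5 := sub_mem (sub_mem h2 (Ideal.mem_sup_right (S := Ideal.span {π i ^ n}) h3))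
        (Ideal.mem_sup_right (S := Ideal.span {π i ^ n}) h4)
      convert h5 using 1
      ring
    obtain ⟨q, hq, p, hp, he⟩ := Submodule.mem_sup.1 h1
    obtain ⟨b, rfl⟩ := Ideal.mem_span_singleton'.1 hq
    have hci : c i ≤ C := Finset.le_sup (Finset.mem_univ i)
    have hn : π i ^ n = π i ^ (n - c i) * π i ^ c i := by rw [← pow_add]; congr 1; omega
    have h6 : (a i - b * π i ^ (n - c i)) * π i ^ c i ∈ P i := by
      convert hp using 1
      rw [hn] at he
      linear_combination -he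
    have h7 := ((hPp i).mem_or_mem h6).resolve_right fun h8 => hπP i ((hPp i).mem_of_pow_mem _ h8)
    show a i ∈ J i
    rw [show a i = (a i - b * π i ^ (n - c i)) + b * π i ^ (n - c i) by ring]
    refine add_mem (Ideal.mem_sup_left h7) (Ideal.mem_sup_right ?_)
    rw [Ideal.mem_span_singleton']
    exact ⟨b * π i ^ (C - c i), by rw [mul_assoc, ← pow_add]; congr 2; omega⟩
  let e := χ.quotKerEquivRange
  have key : Module.length A (∀ i, A ⧸ J i) ≤ GrothLib.NodeEt.lev A n :=
    calc Module.length A (∀ i, A ⧸ J i)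
        ≤ Module.length A ((Fin 3 → A) ⧸ LinearMap.ker χ) :=
          Module.length_le_of_surjective ((LinearMap.ker χ).liftQ ψ hker) (by
            rw [← LinearMap.range_eq_top, Submodule.range_liftQ, LinearMap.range_eq_top]; exact hψ)
      _ ≤ GrothLib.NodeEt.lev A n := by
          rw [e.length_eq]
          exact Module.length_le_of_injective (LinearMap.range χ).subtype (Submodule.injective_subtype _)
  rw [Module.length_pi_of_fintype, h.1] at key
  have hlow : ∑ _i : Fin 3, ((n - C : ℕ) : ℕ∞) ≤ ∑ i, Module.length A (A ⧸ J i) :=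
    Finset.sum_le_sum fun i _ => (haveI := hPp i; le_length_quot (hπm i) (hπP i) _)
  have := hlow.trans key
  rw [← Nat.cast_sum, Nat.cast_le, Finset.sum_const, Finset.card_univ, Fintype.card_fin, smul_eq_mul] at this
  omega

theorem span_pair_shear {R : Type u} [CommRing R] (x y z : R) :
    Ideal.span {x, y} = Ideal.span {x, y - z * x} := by
  refine le_antisymm ?_ ?_ <;> rw [Ideal.span_le] <;> rintro t (rfl | rfl) <;>
    refine Ideal.mem_span_pair.2 ?_
  · exact ⟨1, 0, by ring⟩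
  · exact ⟨z, 1, by ring⟩
  · exact ⟨1, 0, by ring⟩
  · exact ⟨-z, 1, by ring⟩

/-- A reduced node whose branches are regular has transversal branch uniformisers with product zero. -/
theorem exists_uv [IsNoetherianRing A] [IsReduced A] (h : GrothLib.NodeEt.NodeForm A)
    (hπ : ∀ P ∈ minimalPrimes A, ∃ π : A, π ∈ maximalIdeal A ∧ π ∉ P ∧ maximalIdeal A ≤ Ideal.span {π} ⊔ P) :
    ∃ u v : A, maximalIdeal A = Ideal.span {u, v} ∧ u * v = 0 := by
  classical
  have hbot : ∀ x : A, (∀ P ∈ minimalPrimes A, x ∈ P) → x = 0 := fun x hx => by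
    have h1 : x ∈ nilradical A := by
      rw [nilradical, Ideal.zero_eq_bot, ← Ideal.sInf_minimalPrimes, Submodule.mem_sInf]
      exact hx
    simpa using h1
  obtain ⟨u₀, v₀, -, -, -, hm, -, -⟩ := h.2
  have hu₀ : u₀ ∈ maximalIdeal A := hm ▸ Ideal.subset_span (by simp)
  have hv₀ : v₀ ∈ maximalIdeal A := hm ▸ Ideal.subset_span (by simp)
  have hne1 : (1 : A) ∉ maximalIdeal A :=
    (maximalIdeal A).ne_top_iff_one.1 (maximalIdeal.isMaximal A).ne_top
  -- each branch contains a linear element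
  have hlin : ∀ P ∈ minimalPrimes A, ∃ g r : A, r ∈ P ∧ maximalIdeal A = Ideal.span {g, r} := by
    intro P hP
    haveI := hP.1.1
    obtain ⟨π, hπm, hπP, hgen⟩ := hπ P hP
    obtain ⟨x, hx, p₀, hp₀, e₀⟩ := Submodule.mem_sup.1 (hgen hu₀)
    obtain ⟨a, rfl⟩ := Ideal.mem_span_singleton'.1 hx
    obtain ⟨y, hy, p₁, hp₁, e₁⟩ := Submodule.mem_sup.1 (hgen hv₀)
    obtain ⟨b, rfl⟩ := Ideal.mem_span_singleton'.1 hy
    by_cases ha : IsUnit a
    · obtain ⟨a, rfl⟩ := ha
      refine ⟨u₀, v₀ - b * ↑a⁻¹ * u₀, ?_, ?_⟩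
      · have : v₀ - b * ↑a⁻¹ * u₀ = p₁ - b * ↑a⁻¹ * p₀ := by
          have e : (↑a⁻¹ : A) * a = 1 := Units.inv_mul a
          rw [← e₀, ← e₁]; linear_combination (-(b * π)) * e
        rw [this]; exact sub_mem hp₁ (P.mul_mem_left _ hp₀)
      · exact hm.trans (span_pair_shear u₀ v₀ _)
    by_cases hb : IsUnit b
    · obtain ⟨b, rfl⟩ := hb
      refine ⟨v₀, u₀ - a * ↑b⁻¹ * v₀, ?_, ?_⟩
      · have : u₀ - a * ↑b⁻¹ * v₀ = p₀ - a * ↑b⁻¹ * p₁ := by
          have e : (↑b⁻¹ : A) * b = 1 := Units.inv_mul b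
          rw [← e₀, ← e₁]; linear_combination (-(a * π)) * e
        rw [this]; exact sub_mem hp₀ (P.mul_mem_left _ hp₁)
      · exact (hm.trans (congrArg Ideal.span (Set.pair_comm u₀ v₀))).trans (span_pair_shear v₀ u₀ _)
    exfalso
    obtain ⟨α, β, e₂⟩ := Ideal.mem_span_pair.1 (hm ▸ hπm : π ∈ Ideal.span {u₀, v₀})
    have h1 : π * (1 - (α * a + β * b)) ∈ P := by
      have : π * (1 - (α * a + β * b)) = α * p₀ + β * p₁ := by
        rw [← e₀, ← e₁] at e₂; linear_combination -e₂
      rw [this]; exact add_mem (P.mul_mem_left _ hp₀) (P.mul_mem_left _ hp₁)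
    have h2 := le_maximalIdeal hP.1.1.ne_top ((hP.1.1.mem_or_mem h1).resolve_left hπP)
    exact hne1 (by simpa using add_mem h2 (add_mem ((maximalIdeal A).mul_mem_left α ha) ((maximalIdeal A).mul_mem_left β hb)))
  obtain ⟨P, hP⟩ : (minimalPrimes A).Nonempty := Set.nonempty_coe_sort.1 (Ideal.nonempty_minimalPrimes bot_ne_top)
  obtain ⟨Q, hQ, hQP⟩ : ∃ Q ∈ minimalPrimes A, Q ≠ P := by
    by_contra hcon
    simp only [not_exists, not_and, not_not] at hcon
    obtain ⟨g, r, hr, hgr⟩ := hlin P hP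
    obtain rfl : r = 0 := hbot r fun R hR => hcon R hR ▸ hr
    exact hne1 (h.linear_coeff_mem hgr (p := 0) (q := 1) (by simp)).2
  obtain ⟨g, v, hv, hgv⟩ := hlin P hP
  obtain ⟨g', w, hw, hgw⟩ := hlin Q hQ
  have hwv : w * v = 0 := hbot _ fun R hR => by
    by_contra hR'
    refine no_three_branches h ![P, Q, R] (Fin.forall_fin_succ.2 ⟨hP, Fin.forall_fin_two.2 ⟨hQ, hR⟩⟩) ?_
      (fun i => hπ _ (by fin_cases i <;> assumption))
    have h1 : R ≠ P := fun e => hR' (R.mul_mem_left _ (e ▸ hv))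
    have h2 : R ≠ Q := fun e => hR' (R.mul_mem_right _ (e ▸ hw))
    intro i j hij
    fin_cases i <;> fin_cases j <;> simp_all [eq_comm]
  refine ⟨w, v, ?_, hwv⟩
  have hw' : w ∈ maximalIdeal A := hgw ▸ Ideal.subset_span (by simp)
  have hv' : v ∈ maximalIdeal A := hgv ▸ Ideal.subset_span (by simp)
  obtain ⟨α, β, e⟩ := Ideal.mem_span_pair.1 (hgv ▸ hw' : w ∈ Ideal.span {g, v})
  by_cases hα : IsUnit α
  · obtain ⟨α, rfl⟩ := hα
    refine le_antisymm ?_ (Ideal.span_le.2 (by
      rintro z (rfl | rfl) <;> assumption))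
    rw [hgv, Ideal.span_le]
    rintro z (rfl | rfl)
    · exact Ideal.mem_span_pair.2 ⟨↑α⁻¹, -(↑α⁻¹ * β), by
        have e' : (↑α⁻¹ : A) * α = 1 := Units.inv_mul α
        rw [← e]; linear_combination z * e'⟩
    · exact Ideal.subset_span (by simp)
  · exfalso
    have hαm : α ∈ maximalIdeal A := hα
    have hβ : β ∉ maximalIdeal A := fun hβ => by
      have : w ∈ maximalIdeal A ^ 2 := by
        rw [← e, pow_two]
        exact add_mem (Ideal.mul_mem_mul hαm (hgv ▸ Ideal.subset_span (by simp))) (Ideal.mul_mem_mul hβ hv')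
      exact hne1 (h.linear_coeff_mem hgw (p := 0) (q := 1) (by simpa using this)).2
    have hr : 0 * g ^ 2 + α * (g * v) + β * v ^ 2 ∈ maximalIdeal A ^ 3 := by
      have : 0 * g ^ 2 + α * (g * v) + β * v ^ 2 = w * v := by rw [← e]; ring
      rw [this, hwv]; exact zero_mem _
    have := h.disc_isUnit hgv hr fun hh => hβ hh.2.2
    exact (mem_maximalIdeal _).1 (by simpa using Ideal.pow_mem_of_mem _ hαm 2 two_pos) this

end GrothLib.StrictSS6
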