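import Groth.Agent.Lib.StrictSS6.Chart
import Mathlib.RingTheory.Unramified.Field
import Mathlib.RingTheory.Etale.Field

/-! # Charts at smooth points and at nodes over a separably closed field -/

set_option autoImplicit false
set_option linter.all false
set_option backward.isDefEq.respectTransparency false

universe u

open CategoryTheory CategoryTheory.Limits AlgebraicGeometry IsLocalRing

noncomputable section

namespace GrothLib.StrictSS6

open GrothLib.NodeEt

variable {k : Type u} [Field k] {C D : Scheme.{u}} (φ : C ⟶ Spec (CommRingCat.of k)) (i : D ⟶ C)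

theorem components_dim_of_fibre
    (h : ∀ s, ∀ W ∈ irreducibleComponents (φ.fiber s : Type u), topologicalKrullDim W = 1) :
    ∀ W ∈ irreducibleComponents (C : Type u), topologicalKrullDim W = 1 := by
  intro W hW
  let s : Spec (CommRingCat.of k) := (⊥ : PrimeSpectrum k)
  let ι := φ.fiberι s
  have hsurj : Function.Surjective ι := fun c => by
    have : c ∈ Set.range ι := by
      rw [Scheme.Hom.range_fiberι]
      exact Subsingleton.elim (α := PrimeSpectrum k) _ _
    exact this
  obtain ⟨w, hw⟩ := hW.1.nonempty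
  let e := ι.isEmbedding.toHomeomorphOfSurjective hsurj
  have h1 : e ⁻¹' W ∈ irreducibleComponents (φ.fiber s : Type u) :=
    preimage_mem_irreducibleComponents hW e.isOpenEmbedding ⟨w, hw, e.surjective w⟩
  rw [← IsHomeomorph.topologicalKrullDim_eq _ ((e.sets rfl).isHomeomorph : IsHomeomorph (e.sets (s := e ⁻¹' W) (t := W) rfl))]
  exact h s _ h1

theorem hasLineChartAt [IsSepClosed k] [LocallyOfFiniteType φ] [IsClosedImmersion i] [Etale (i ≫ φ)] (x : C)
    (U₀ : C.Opens) (hx : x ∈ U₀) [Smooth (U₀.ι ≫ φ)]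
    (hd : ∀ y, FlatMor.fibreDimAt (U₀.ι ≫ φ) y = 1) : StrictSS.HasLineChartAt φ i x := by
  classical
  haveI : SmoothOfRelativeDimension 1 (U₀.ι ≫ φ) :=
    GrothLib.CurveStk.smoothOfRelativeDimension_of_fibreDim (U₀.ι ≫ φ) 1 (fun y => by simpa using hd y)
  obtain ⟨c₁⟩ := exists_chart (U₀.ι ≫ φ) (⟨x, hx⟩ : (U₀ : Scheme.{u}))
  haveI : SmoothOfRelativeDimension 1 (Spec.map (CommRingCat.ofHom (algebraMap k c₁.R))) := by
    rw [← c₁.hj]
    exact (inferInstance : SmoothOfRelativeDimension (0 + 1) (c₁.j ≫ U₀.ι ≫ φ))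
  obtain ⟨S, hS, hloc⟩ := (HasRingHomProperty.Spec_iff (P := @SmoothOfRelativeDimension 1)).1
    (inferInstance : SmoothOfRelativeDimension 1 (Spec.map (CommRingCat.ofHom (algebraMap k c₁.R))))
  obtain ⟨r, hrS, hr⟩ : ∃ r ∈ S, r ∉ c₁.pt.asIdeal := by
    by_contra hcon
    simp only [not_exists, not_and, not_not] at hcon
    exact c₁.pt.2.ne_top (top_le_iff.1 (hS.ge.trans (Ideal.span_le.2 hcon)))
  -- the chart of the localisation
  let Rr := Localization.Away r
  let j₂ : Spec (CommRingCat.of Rr) ⟶ C :=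
    Spec.map (CommRingCat.ofHom (algebraMap c₁.R Rr)) ≫ c₁.j ≫ U₀.ι
  haveI : IsOpenImmersion (Spec.map (CommRingCat.ofHom (algebraMap c₁.R Rr))) := IsOpenImmersion.of_isLocalization r
  obtain ⟨p₂, hp₂⟩ := (PrimeSpectrum.localization_away_comap_range Rr r).ge hr
  let c : Chart φ x := ⟨Rr, j₂, by
      rw [Category.assoc, Category.assoc, c₁.hj, ← Spec.map_comp]; rfl, p₂, by
      have h1 : c₁.j (PrimeSpectrum.comap (algebraMap c₁.R Rr) p₂) = (⟨x, hx⟩ : (U₀ : Scheme.{u})) :=
        (congrArg (fun z => c₁.j z) hp₂).trans c₁.hpt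
      exact congrArg U₀.ι.base h1⟩
  obtain ⟨gh, hgh⟩ := (show (algebraMap k c.R).IsStandardSmoothOfRelativeDimension 1 from hloc r hrS).exists_etale_mvPolynomial
  have hgC : gh.comp MvPolynomial.C = algebraMap k c.R := hgh.1
  let a₀ : c.R := gh (MvPolynomial.X 0)
  let e₁ : Polynomial k ≃ₐ[k] MvPolynomial (Fin 1) k :=
    AlgEquiv.ofAlgHom (Polynomial.aeval (MvPolynomial.X 0)) (MvPolynomial.aeval fun _ => Polynomial.X)
      (MvPolynomial.algHom_ext fun i => by fin_cases i; simp) (Polynomial.algHom_ext (by simp))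
  have het0 : (Polynomial.aeval (R := k) a₀).toRingHom.Etale := by
    have h1 : (Polynomial.aeval (R := k) a₀).toRingHom = gh.comp e₁.toRingEquiv.toRingHom := by
      refine Polynomial.ringHom_ext (fun b => ?_) ?_
      · simp [e₁, ← hgC]
      · simp [e₁, a₀]
    rw [h1]
    exact RingHom.Etale.respectsIso.2 _ e₁.toRingEquiv hgh.2
  have hloc' : ∀ g : c.R, (algebraMap c.R (Localization.Away g)).Etale := fun g => by
    rw [RingHom.etale_algebraMap]; exact Algebra.Etale.of_isLocalizationAway g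
  by_cases hxD : x ∈ Set.range i.base
  · -- a marked point is rational and reduced in the marked subscheme
    haveI : IsClosedImmersion (pullback.snd i c.j) := MorphismProperty.pullback_snd _ _ inferInstance
    obtain ⟨I, eI, heI⟩ := IsClosedImmersion.Spec_iff.1 (inferInstance : IsClosedImmersion (pullback.snd i c.j))
    haveI : Etale (Spec.map (CommRingCat.ofHom (algebraMap k (c.R ⧸ I)))) := by
      have h1 : Spec.map (CommRingCat.ofHom (algebraMap k (c.R ⧸ I))) = (eI.inv ≫ pullback.fst i c.j) ≫ i ≫ φ := by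
        rw [Category.assoc, pullback.condition_assoc, c.hj, heI, Category.assoc, Iso.inv_hom_id_assoc, ← Spec.map_comp]
        rfl
      rw [h1]; infer_instance
    haveI : Algebra.Etale k (c.R ⧸ I) :=
      RingHom.etale_algebraMap.1 ((HasRingHomProperty.Spec_iff (P := @Etale)).1
        (inferInstance : Etale (Spec.map (CommRingCat.ofHom (algebraMap k (c.R ⧸ I))))))
    obtain ⟨z, hz⟩ := hxD
    have hI : I ≤ c.pt.asIdeal := by
      obtain ⟨t, -, ht⟩ := Scheme.Pullback.exists_preimage_pullback (f := i) (g := c.j) z c.pt (hz.trans c.hpt.symm)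
      rw [heI, Scheme.Hom.comp_apply] at ht
      rw [← ht]
      intro b hb
      show b ∈ (PrimeSpectrum.comap (Ideal.Quotient.mk I) _).asIdeal
      rw [PrimeSpectrum.comap_asIdeal, Ideal.mem_comap, Ideal.Quotient.eq_zero_iff_mem.2 hb]; exact zero_mem _
    let P : Ideal (c.R ⧸ I) := c.pt.asIdeal.map (Ideal.Quotient.mk I)
    have hP : P.comap (Ideal.Quotient.mk I) = c.pt.asIdeal := by
      rw [Ideal.comap_map_of_surjective _ Ideal.Quotient.mk_surjective, sup_eq_left]
      exact fun b hb => hI (Ideal.Quotient.eq_zero_iff_mem.1 (by simpa using hb))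
    haveI : P.IsPrime := Ideal.map_isPrime_of_surjective Ideal.Quotient.mk_surjective (by rw [Ideal.mk_ker]; exact hI)
    haveI : Module.Finite k (c.R ⧸ I) := Algebra.FormallyUnramified.finite_of_free k (c.R ⧸ I)
    haveI : IsArtinianRing (c.R ⧸ I) := isArtinian_of_tower k inferInstance
    haveI : IsReduced (c.R ⧸ I) := Algebra.FormallyUnramified.isReduced_of_field k _
    haveI : P.IsMaximal := IsArtinianRing.isMaximal_of_isPrime P
    haveI : Algebra.IsSeparable k ((c.R ⧸ I) ⧸ P) := by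
      haveI : Algebra.FormallyUnramified k ((c.R ⧸ I) ⧸ P) := Algebra.FormallyUnramified.comp k (c.R ⧸ I) _
      letI := Ideal.Quotient.field P
      exact Algebra.FormallyUnramified.isSeparable k _
    obtain ⟨c₀, hc₀⟩ : ∃ c₀ : k, a₀ - algebraMap k c.R c₀ ∈ c.pt.asIdeal := by
      letI := Ideal.Quotient.field P
      obtain ⟨c₀, hc₀⟩ := IsSepClosed.algebraMap_surjective k ((c.R ⧸ I) ⧸ P) (Ideal.Quotient.mk P (Ideal.Quotient.mk I a₀))
      refine ⟨c₀, hP.le ?_⟩
      rw [Ideal.mem_comap, map_sub]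
      exact Ideal.Quotient.eq.1 hc₀.symm
    let a := a₀ - algebraMap k c.R c₀
    obtain ⟨s, hs, hsa⟩ : ∃ s ∉ c.pt.asIdeal, s * a ∈ I := by
      let L := Localization.AtPrime P
      haveI : IsArtinianRing L := inferInstanceAs (IsArtinianRing (Localization P.primeCompl))
      haveI : IsReduced L := inferInstanceAs (IsReduced (Localization P.primeCompl))
      have hf : IsField L := IsArtinianRing.isField_of_isReduced_of_isLocalRing L
      have h0 : algebraMap (c.R ⧸ I) L (Ideal.Quotient.mk I a) = 0 := by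
        have h1 : algebraMap (c.R ⧸ I) L (Ideal.Quotient.mk I a) ∈ maximalIdeal L :=
          (IsLocalization.AtPrime.to_map_mem_maximal_iff L P _).2 (Ideal.mem_map_of_mem _ hc₀)
        rwa [IsLocalRing.isField_iff_maximalIdeal_eq.1 hf, Ideal.mem_bot] at h1
      obtain ⟨⟨s, hs⟩, hs'⟩ := (IsLocalization.map_eq_zero_iff P.primeCompl L _).1 h0
      obtain ⟨s, rfl⟩ := Ideal.Quotient.mk_surjective s
      exact ⟨s, fun h => hs (Ideal.mem_map_of_mem _ h), Ideal.Quotient.eq_zero_iff_mem.1 (by simpa using hs')⟩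
    refine hasLineChartAt_of φ i c a s hs ?_ ?_
    · refine RingHom.Etale.stableUnderComposition _ _ ?_ (hloc' s)
      have h2 : (Polynomial.aeval (R := k) a).toRingHom = (Polynomial.aeval (R := k) a₀).toRingHom.comp
          (Polynomial.algEquivAevalXAddC (-c₀)).toRingEquiv.toRingHom := by
        refine Polynomial.ringHom_ext (fun b => ?_) ?_
        · simp
        · simp [a, sub_eq_add_neg]
      rw [h2]
      exact RingHom.Etale.respectsIso.2 _ _ het0
    · intro T _ ρ w hw hu
      have h1 : w ≫ i = Spec.map (CommRingCat.ofHom ρ) ≫ c.j := hw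
      obtain ⟨τ, hτ⟩ : ∃ τ, Spec.map τ = pullback.lift w (Spec.map (CommRingCat.ofHom ρ)) h1 ≫ eI.hom :=
        ⟨_, Spec.map_preimage _⟩
      have h2 : CommRingCat.ofHom ρ = CommRingCat.ofHom (Ideal.Quotient.mk I) ≫ τ := by
        apply Spec.map_injective
        rw [Spec.map_comp, hτ, Category.assoc, ← heI, pullback.lift_snd]
      have h3 : ρ (s * a) = 0 := by
        rw [show ρ = τ.hom.comp (Ideal.Quotient.mk I) from congrArg CommRingCat.Hom.hom h2, RingHom.comp_apply,
          Ideal.Quotient.eq_zero_iff_mem.2 hsa, map_zero]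
      rw [map_mul] at h3
      exact (hu.mul_right_eq_zero).1 h3
  · obtain ⟨g, hg, hgD⟩ := exists_mem_notMem φ c ⟨(Set.range i.base)ᶜ, i.isClosedEmbedding.isClosed_range.isOpen_compl⟩ hxD
    refine hasLineChartAt_of φ i c a₀ g hg (RingHom.Etale.stableUnderComposition _ _ het0 (hloc' g)) ?_
    intro T _ ρ w hw hu
    by_cases hT : Nontrivial T
    · exfalso
      obtain ⟨m, hm⟩ := Ideal.exists_maximal T
      let q : Spec (CommRingCat.of T) := (⟨m, hm.isPrime⟩ : PrimeSpectrum T)
      have h1 : i (w q) = c.j (PrimeSpectrum.comap ρ (⟨m, hm.isPrime⟩ : PrimeSpectrum T)) := by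
        rw [← Scheme.Hom.comp_apply, hw]; rfl
      exact hgD _ (fun hmem => hm.ne_top (m.eq_top_of_isUnit_mem hmem hu)) ⟨_, h1⟩
    · exact @Subsingleton.elim _ (not_nontrivial_iff_subsingleton.1 hT) _ _

theorem hasNodeChartAt [IsSepClosed k] [LocallyOfFiniteType φ] [IsReduced C] [IsClosedImmersion i]
    (hequi : ∀ W ∈ irreducibleComponents (C : Type u), topologicalKrullDim W = 1)
    (hZ : ∀ Z ∈ irreducibleComponents (C : Type u), ∃ (W : Scheme.{u}) (e : W ⟶ C),
      IsClosedImmersion e ∧ IsReduced W ∧ Set.range e.base = Z ∧ Smooth (e ≫ φ))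
    (x : C) (hxD : x ∉ Set.range i.base) (hnode : @Curv2.IsNode k _ C ⟨φ⟩ x) :
    StrictSS.HasNodeChartAt φ i x := by
  classical
  obtain ⟨hx, hsep, hnf⟩ := (isNode_iff_nodeForm φ x).1 hnode
  obtain ⟨c⟩ := exists_chart φ x
  haveI := c.isMaximal hx
  haveI : IsLocallyNoetherian C := LocallyOfFiniteType.isLocallyNoetherian φ
  letI := Ideal.Quotient.field c.pt.asIdeal
  haveI : Algebra.IsSeparable k (c.R ⧸ c.pt.asIdeal) := (c.isSeparable_iff φ).2 hsep
  have hres : ∀ a : c.R, ∃ b : k, a - algebraMap k c.R b ∈ c.pt.asIdeal := fun a => by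
    obtain ⟨b, hb⟩ := IsSepClosed.algebraMap_surjective k (c.R ⧸ c.pt.asIdeal) (Ideal.Quotient.mk _ a)
    exact ⟨b, Ideal.Quotient.eq.1 hb.symm⟩
  obtain ⟨u, v, hgen, huv⟩ := exists_uv hnf (branch_uniformiser φ hequi hZ x hx)
  obtain ⟨e, -⟩ := c.exists_equiv
  let L := Localization.AtPrime c.pt.asIdeal
  obtain ⟨a, s, ha⟩ := IsLocalization.exists_mk'_eq c.pt.asIdeal.primeCompl (e.symm u)
  obtain ⟨b, t, hb⟩ := IsLocalization.exists_mk'_eq c.pt.asIdeal.primeCompl (e.symm v)
  have hau : algebraMap c.R L a = algebraMap c.R L s * e.symm u := by rw [← ha, IsLocalization.mk'_spec']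
  have hbv : algebraMap c.R L b = algebraMap c.R L t * e.symm v := by rw [← hb, IsLocalization.mk'_spec']
  have h0 : algebraMap c.R L (a * b) = 0 := by
    rw [map_mul, hau, hbv, mul_mul_mul_comm, ← map_mul e.symm, huv, map_zero, mul_zero]
  obtain ⟨⟨d, hd⟩, hd'⟩ := (IsLocalization.map_eq_zero_iff c.pt.asIdeal.primeCompl L _).1 h0
  have hgenL : maximalIdeal L = Ideal.span {algebraMap c.R L (d * a), algebraMap c.R L b} := by
    have h1 : maximalIdeal L = Ideal.span {e.symm u, e.symm v} := by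
      rw [← IsLocalRing.map_ringEquiv_maximalIdeal e.symm, hgen, Ideal.map_span, Set.image_pair]
    obtain ⟨d₁, hd₁⟩ := IsLocalization.map_units L (⟨d, hd⟩ : c.pt.asIdeal.primeCompl)
    obtain ⟨s₁, hs₁⟩ := IsLocalization.map_units L s
    obtain ⟨t₁, ht₁⟩ := IsLocalization.map_units L t
    rw [h1, map_mul, hau, hbv, ← hd₁, ← hs₁, ← ht₁, ← mul_assoc, ← Units.val_mul]
    refine le_antisymm ?_ ?_ <;> rw [Ideal.span_le] <;> rintro z (rfl | rfl) <;> refine Ideal.mem_span_pair.2 ?_
    · exact ⟨↑(d₁ * s₁)⁻¹, 0, by rw [← mul_assoc, Units.inv_mul, one_mul, zero_mul, add_zero]⟩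
    · exact ⟨0, ↑t₁⁻¹, by rw [← mul_assoc (↑t₁⁻¹ : L), Units.inv_mul, one_mul, zero_mul, zero_add]⟩
    · exact ⟨↑(d₁ * s₁), 0, by rw [zero_mul, add_zero]⟩
    · exact ⟨0, ↑t₁, by rw [zero_mul, zero_add]⟩
  haveI : IsReduced (C.presheaf.stalk x) := inferInstance
  obtain ⟨ψ, g, hg, het⟩ := exists_etale_nodeAlg c.pt.asIdeal hres (hnf.of_ringEquiv e.symm) (d * a) b
    (by rw [mul_assoc]; exact hd') hgenL
  obtain ⟨g', hg', hgD⟩ := exists_mem_notMem φ c ⟨(Set.range i.base)ᶜ, i.isClosedEmbedding.isClosed_range.isOpen_compl⟩ hxD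
  refine hasNodeChartAt_of φ i c ψ (g * g') (c.pt.2.mul_notMem hg hg') ?_ fun p hp => hgD p fun h => hp (p.asIdeal.mul_mem_left _ h)
  let T := Localization.Away (algebraMap c.R (Localization.Away g) g')
  let E : T ≃ₐ[c.R] Localization.Away (g * g') := IsLocalization.algEquiv (Submonoid.powers (g * g')) T _
  haveI : Algebra.Etale (Localization.Away g) T := Algebra.Etale.of_isLocalizationAway (algebraMap c.R (Localization.Away g) g')
  have h1 := RingHom.Etale.stableUnderComposition _ _ het (RingHom.etale_algebraMap.2 ‹Algebra.Etale (Localization.Away g) T›)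
  have h2 := RingHom.Etale.respectsIso.1 _ E.toRingEquiv h1
  convert h2 using 1
  refine RingHom.ext fun z => ?_
  show algebraMap c.R _ (ψ z) = E (algebraMap (Localization.Away g) T (algebraMap c.R _ (ψ z)))
  rw [← IsScalarTower.algebraMap_apply, E.commutes]

end GrothLib.StrictSS6
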