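import Groth.Agent.Lib.StrictSS6.Local
import Groth.Agent.Lib.GLSlice.LevelFlat
import Groth.Prelude.Def_StrictSS
import Mathlib.RingTheory.Etale.Locus

/-! # Etale node charts from branch uniformisers -/

set_option autoImplicit false
set_option linter.all false
set_option backward.isDefEq.respectTransparency false

universe u

open IsLocalRing

noncomputable section

namespace GrothLib.StrictSS6

theorem span_pow_le {R : Type u} [CommRing R] {u v : R} (huv : u * v = 0) :
    ∀ j : ℕ, Ideal.span {u, v} ^ (j + 1) ≤ Ideal.span {u ^ (j + 1), v ^ (j + 1)} := by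
  intro j
  induction j with
  | zero => simp
  | succ j ih =>
    rw [pow_succ]
    refine (Ideal.mul_mono ih le_rfl).trans ?_
    rw [Ideal.span_mul_span', Ideal.span_le]
    rintro _ ⟨x, hx, y, hy, rfl⟩
    simp only [Set.mem_insert_iff, Set.mem_singleton_iff] at hx hy
    show x * y ∈ _
    have e1 : u ^ (j + 1) * v = 0 := by rw [pow_succ, mul_assoc, huv, mul_zero]
    have e2 : v ^ (j + 1) * u = 0 := by rw [pow_succ, mul_assoc, mul_comm v, huv, mul_zero]
    rcases hx with hx | hx <;> rcases hy with hy | hy <;> rw [hx, hy]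
    · exact Ideal.subset_span (by simp [pow_succ])
    · rw [e1]; exact zero_mem _
    · rw [e2]; exact zero_mem _
    · exact Ideal.subset_span (by simp [pow_succ])

/-- At a rational point of node form, two generators with product zero give an etale map to the node model. -/
theorem exists_etale_nodeAlg {k : Type u} [Field k] {R : Type u} [CommRing R] [Algebra k R] [Algebra.FiniteType k R]
    (q : Ideal R) [q.IsMaximal] (hres : ∀ a : R, ∃ c : k, a - algebraMap k R c ∈ q)
    (hnf : GrothLib.NodeEt.NodeForm (Localization.AtPrime q)) (a b : R) (hab : a * b = 0)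
    (hgen : maximalIdeal (Localization.AtPrime q) =
      Ideal.span {algebraMap R (Localization.AtPrime q) a, algebraMap R (Localization.AtPrime q) b}) :
    ∃ ψ : StrictSS.NodeAlg k (0 : k) →ₐ[k] R, ∃ g ∉ q,
      ((algebraMap R (Localization.Away g)).comp ψ.toRingHom).Etale := by
  classical
  let ψ : StrictSS.NodeAlg k (0 : k) →ₐ[k] R := Ideal.Quotient.liftₐ _ (MvPolynomial.aeval ![a, b]) fun z hz => by
    obtain ⟨c, rfl⟩ := Ideal.mem_span_singleton'.1 hz
    simp [hab]
  refine ⟨ψ, ?_⟩
  letI : Algebra (StrictSS.NodeAlg k (0 : k)) R := ψ.toRingHom.toAlgebra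
  haveI : IsScalarTower k (StrictSS.NodeAlg k (0 : k)) R := IsScalarTower.of_algebraMap_eq fun c => (ψ.commutes c).symm
  haveI : Algebra.FiniteType (StrictSS.NodeAlg k (0 : k)) R :=
    Algebra.FiniteType.of_restrictScalars_finiteType k (StrictSS.NodeAlg k (0 : k)) R
  let N := StrictSS.NodeAlg k (0 : k)
  let L := Localization.AtPrime q
  let nu : N := Ideal.Quotient.mk _ (MvPolynomial.X 0)
  let nv : N := Ideal.Quotient.mk _ (MvPolynomial.X 1)
  have hψu : algebraMap N R nu = a := by show ψ nu = a; simp [ψ, nu]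
  have hψv : algebraMap N R nv = b := by show ψ nv = b; simp [ψ, nv]
  have huv : nu * nv = 0 := by
    rw [← map_mul, Ideal.Quotient.eq_zero_iff_mem]
    exact Ideal.subset_span (by simp)
  have ha : a ∈ q := (IsLocalization.AtPrime.to_map_mem_maximal_iff L q a).1
    (hgen ▸ Ideal.subset_span (Or.inl rfl))
  have hb : b ∈ q := (IsLocalization.AtPrime.to_map_mem_maximal_iff L q b).1
    (hgen ▸ Ideal.subset_span (Or.inr rfl))
  let p : Ideal N := q.under N
  have hp : Ideal.span {nu, nv} ≤ p := Ideal.span_le.2 (by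
    rintro z (rfl | rfl)
    · show algebraMap N R nu ∈ q; rwa [hψu]
    · show algebraMap N R nv ∈ q; rwa [hψv])
  have hdec : ∀ r : N, ∃ c : k, r - algebraMap k N c ∈ Ideal.span {nu, nv} := by
    intro r
    obtain ⟨r, rfl⟩ := Ideal.Quotient.mk_surjective r
    induction r using MvPolynomial.induction_on with
    | C c => exact ⟨c, by convert (Ideal.span {nu, nv}).zero_mem; exact sub_self _⟩
    | add f g hf hg =>
      obtain ⟨c, hc⟩ := hf; obtain ⟨d, hd⟩ := hg
      exact ⟨c + d, by convert add_mem hc hd using 1; rw [map_add, map_add]; ring⟩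
    | mul_X f i _ =>
      have hi : (Ideal.Quotient.mk _ (MvPolynomial.X i) : N) ∈ Ideal.span {nu, nv} :=
        Ideal.subset_span (by fin_cases i <;> simp [nu, nv])
      exact ⟨0, by simpa [map_mul] using Ideal.mul_mem_left _ (Ideal.Quotient.mk _ f) hi⟩
  have hpeq : p = Ideal.span {nu, nv} := le_antisymm (fun r hr => by
    obtain ⟨c, hc⟩ := hdec r
    by_cases h0 : c = 0
    · simpa [h0] using hc
    · exfalso
      have h1 := q.sub_mem (show algebraMap N R r ∈ q from hr) (show algebraMap N R (r - algebraMap k N c) ∈ q from hp hc)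
      rw [← map_sub, sub_sub_cancel, ← IsScalarTower.algebraMap_apply] at h1
      exact (Ideal.IsMaximal.ne_top ‹_›) (q.eq_top_of_isUnit_mem h1 ((IsUnit.mk0 c h0).map _))) hp
  haveI : p.IsPrime := Ideal.IsPrime.under _ q
  haveI : p.IsMaximal := Ideal.isMaximal_iff.2 ⟨fun h => ‹p.IsPrime›.ne_top ((Ideal.eq_top_iff_one _).2 h),
    fun J x hle hxp hxJ => by
      obtain ⟨c, hc⟩ := hdec x
      have hc0 : c ≠ 0 := fun h0 => hxp (hpeq ▸ by simpa [h0] using hc)
      have h1 := J.sub_mem hxJ (hle (hpeq ▸ hc))
      rw [sub_sub_cancel] at h1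
      exact (Ideal.eq_top_iff_one _).1 (J.eq_top_of_isUnit_mem h1 ((IsUnit.mk0 c hc0).map _))⟩
  haveI : q.LiesOver p := ⟨rfl⟩
  have hu' : algebraMap N L nu = algebraMap R L a := by rw [IsScalarTower.algebraMap_apply N R L, hψu]
  have hv' : algebraMap N L nv = algebraMap R L b := by rw [IsScalarTower.algebraMap_apply N R L, hψv]
  have hmap : p.map (algebraMap N L) = maximalIdeal L := by
    rw [hpeq, Ideal.map_span, Set.image_pair, hu', hv', hgen]
  have hmap' : ∀ n : ℕ, (p ^ n).map (algebraMap N L) = maximalIdeal L ^ n := fun n => by rw [Ideal.map_pow, hmap]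
  -- every element is congruent to one from the model
  have hsurjL : ∀ (n : ℕ) (l : L), ∃ r : N, l - algebraMap N L r ∈ maximalIdeal L ^ n := by
    have h0 : ∀ l : L, ∃ r : N, l - algebraMap N L r ∈ maximalIdeal L := by
      intro l
      obtain ⟨y, s, rfl⟩ := IsLocalization.exists_mk'_eq q.primeCompl l
      obtain ⟨c, hc⟩ := hres y
      obtain ⟨d, hd⟩ := hres s
      have hd0 : d ≠ 0 := fun h0 => s.2 (by simpa [h0] using hd)
      refine ⟨algebraMap k N (c * d⁻¹), ?_⟩
      refine (Ideal.unit_mul_mem_iff_mem _ (IsLocalization.map_units L s)).1 ?_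
      rw [mul_sub, IsLocalization.mk'_spec', ← IsScalarTower.algebraMap_apply, IsScalarTower.algebraMap_apply k R L,
        ← map_mul, ← map_sub, IsLocalization.AtPrime.to_map_mem_maximal_iff L q]
      rw [show y - s * algebraMap k R (c * d⁻¹) =
        (y - algebraMap k R c) - (s - algebraMap k R d) * algebraMap k R (c * d⁻¹) from by
          rw [sub_mul, ← map_mul, mul_comm c, ← mul_assoc, mul_inv_cancel₀ hd0, one_mul]; ring]
      exact sub_mem hc (q.mul_mem_right _ hd)
    intro n
    induction n with
    | zero => exact fun l => ⟨0, by simp⟩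
    | succ n ih =>
      intro l
      obtain ⟨r, hr⟩ := ih l
      rw [← hmap'] at hr
      obtain ⟨e, he, heq⟩ : ∃ e ∈ p ^ n, l - algebraMap N L r - algebraMap N L e ∈ maximalIdeal L ^ (n + 1) := by
        revert hr
        generalize l - algebraMap N L r = z
        intro hz
        induction hz using Submodule.span_induction with
        | mem z hz => obtain ⟨e, he, rfl⟩ := hz; exact ⟨e, he, by simp⟩
        | zero => exact ⟨0, zero_mem _, by simp⟩
        | add z z' _ _ hz hz' =>
          obtain ⟨e, he, h⟩ := hz; obtain ⟨e', he', h'⟩ := hz'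
          exact ⟨e + e', add_mem he he', by convert add_mem h h' using 1; rw [map_add]; ring⟩
        | smul c z hz hzz =>
          obtain ⟨e, he, h⟩ := hzz
          obtain ⟨c', hc'⟩ := h0 c
          refine ⟨c' * e, Ideal.mul_mem_left _ _ he, ?_⟩
          have h2 : (c - algebraMap N L c') * algebraMap N L e ∈ maximalIdeal L ^ (n + 1) := by
            rw [pow_succ']; exact Ideal.mul_mem_mul hc' (hmap' n ▸ Ideal.mem_map_of_mem _ he)
          convert add_mem (Ideal.mul_mem_left _ c h) h2 using 1
          rw [map_mul, smul_eq_mul]; ring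
      exact ⟨r + e, by rw [map_add, ← sub_sub]; exact heq⟩
  have hinjL : ∀ (n : ℕ) (r : N), algebraMap N L r ∈ maximalIdeal L ^ n → r ∈ p ^ n := by
    intro n
    induction n with
    | zero => intro r _; rw [Submodule.pow_zero, Ideal.one_eq_top]; trivial
    | succ n ih =>
      intro r hr
      have h1 := ih r (Ideal.pow_le_pow_right n.le_succ hr)
      have hcomap : ∀ z : N, algebraMap N L z ∈ maximalIdeal L → z ∈ p := fun z hz => by
        rw [IsScalarTower.algebraMap_apply N R L, IsLocalization.AtPrime.to_map_mem_maximal_iff L q] at hz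
        exact hz
      cases n with
      | zero => rw [zero_add, pow_one] at hr; rw [Submodule.pow_one]; exact hcomap r hr
      | succ j =>
        obtain ⟨α, β, rfl⟩ := Ideal.mem_span_pair.1 (span_pow_le huv j (hpeq ▸ h1))
        have hs : ∀ i, ![algebraMap R L a ^ (j + 1), algebraMap R L b ^ (j + 1)] i ∈ maximalIdeal L ^ (j + 1) :=
          Fin.forall_fin_two.2 ⟨Ideal.pow_mem_pow (hgen ▸ Ideal.subset_span (Or.inl rfl)) _,
            Ideal.pow_mem_pow (hgen ▸ Ideal.subset_span (Or.inr rfl)) _⟩
        have hg : maximalIdeal L ^ (j + 1) ≤ Ideal.span (Set.range ![algebraMap R L a ^ (j + 1), algebraMap R L b ^ (j + 1)]) ⊔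
            maximalIdeal L ^ (j + 1 + 1) := by
          rw [Matrix.range_cons, Matrix.range_cons, Matrix.range_empty, Set.union_empty, Set.singleton_union, hgen]
          exact (span_pow_le (by rw [← map_mul, hab, map_zero]) j).trans le_sup_left
        have hc := GrothLib.NodeEt.coeff_mem (j + 1) ![algebraMap R L a ^ (j + 1), algebraMap R L b ^ (j + 1)] hs hg
          (hnf.lev_succ_eq j) (hnf.lev_ne_top _) ![algebraMap N L α, algebraMap N L β]
          (by
            rw [Fin.sum_univ_two]
            simpa [map_add, map_mul, map_pow, hu', hv'] using hr)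
        have hpu : nu ^ (j + 1) ∈ p ^ (j + 1) := Ideal.pow_mem_pow (hp (Ideal.subset_span (by simp))) _
        have hpv : nv ^ (j + 1) ∈ p ^ (j + 1) := Ideal.pow_mem_pow (hp (Ideal.subset_span (by simp))) _
        rw [pow_succ' p (j + 1)]
        exact add_mem (Ideal.mul_mem_mul (hcomap α (hc 0)) hpu) (Ideal.mul_mem_mul (hcomap β (hc 1)) hpv)
  have het : Algebra.IsEtaleAt N q := GrothLib.GLSlice.isEtaleAt_of_levels p q
    (fun n x => by
      obtain ⟨r, hr⟩ := hsurjL n (algebraMap R L x)
      exact ⟨r, by rw [hmap', map_sub, ← IsScalarTower.algebraMap_apply]; exact hr⟩)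
    (fun n r hr => hinjL n r (hmap' n ▸ hr))
  haveI : Algebra.FinitePresentation N R := Algebra.FinitePresentation.of_finiteType.1 inferInstance
  obtain ⟨g, hg, h⟩ := Algebra.exists_etale_of_isEtaleAt (R := N) q
  refine ⟨g, hg, ?_⟩
  have : (algebraMap R (Localization.Away g)).comp ψ.toRingHom = algebraMap N (Localization.Away g) :=
    (IsScalarTower.algebraMap_eq N R (Localization.Away g)).symm
  rw [this, RingHom.etale_algebraMap]
  exact h

end GrothLib.StrictSS6
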